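import Cfsg.Agent.S1545
import Cfsg.Agent.PLocal.CoprimeLift
import Cfsg.Agent.H395.Coclique
import Cfsg.Agent.H403.GroupLift

/-!
# Sylow subgroups of prime order, Frobenius actions (helper548, TEAM SPEC-ALT)

* `sylow_num` : `|T| = |C_T(y)| e (1 + k r)` for `y` of prime order `r`, `r² ∤ |T|`, with an element `h` acting on `⟨y⟩`
  with order `e`;
* `ne_one_of_simple` : `e ≠ 1` for `T` simple non-cyclic;
* `lift_pair` : lifting `y`, `h` along a homomorphism with kernel of order prime to `r`;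
* `frob_fix` : a Frobenius pair `x, h` normalizing a `t`-group gives an element of order `t · orderOf h`.
-/

set_option autoImplicit false
set_option linter.unusedSectionVars false

namespace Cfsg.Agent.H548.SpA

open Subgroup Cfsg.Agent.H395.Coclique

section Num

variable {T : Type*} [Group T] [Finite T] {r : ℕ}

theorem isPGroup_zpowers (hr : r.Prime) {y : T} (hy : orderOf y = r) : IsPGroup r ↥(zpowers y) :=
  IsPGroup.of_card (n := 1) (by rw [Nat.card_zpowers, hy, pow_one])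

/-- `⟨y⟩` as a Sylow subgroup -/
theorem exists_sylow (hr : r.Prime) (hsq : ¬ r ^ 2 ∣ Nat.card T) {y : T} (hy : orderOf y = r) :
    ∃ P : Sylow r T, (P : Subgroup T) = zpowers y := by
  have := Fact.mk hr
  refine ⟨(isPGroup_zpowers hr hy).toSylow fun hd => hsq ?_, rfl⟩
  have h1 := (zpowers y).card_mul_index
  rw [Nat.card_zpowers, hy] at h1
  rw [← h1, pow_two]
  exact Nat.mul_dvd_mul_left r hd

theorem mem_centralizer_zpowers {y g : T} : g ∈ centralizer ((zpowers y : Subgroup T) : Set T) ↔ g * y = y * g := by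
  rw [mem_centralizer_iff]
  constructor
  · intro h
    exact (h y (mem_zpowers y)).symm
  · rintro h _ ⟨i, rfl⟩
    exact ((Commute.zpow_right (show Commute g y from h) i)).symm.eq

/-- **the order of a group with Sylow subgroups of prime order** -/
theorem sylow_num (hr : r.Prime) (hsq : ¬ r ^ 2 ∣ Nat.card T) (y : T) (hy : orderOf y = r) :
    ∃ (e k : ℕ) (h : T), e ∣ r - 1 ∧
      Nat.card T = Nat.card ↥(centralizer ((zpowers y : Subgroup T) : Set T)) * e * (1 + k * r) ∧
      (∀ z ∈ zpowers y, h * z * h⁻¹ ∈ zpowers y) ∧ (∀ j : ℕ, h ^ j * y = y * h ^ j ↔ e ∣ j) ∧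
      (e = 1 → normalizer ((zpowers y : Subgroup T) : Set T) ≤ centralizer ((zpowers y : Subgroup T) : Set T)) := by
  have := Fact.mk hr
  obtain ⟨P, hP⟩ := exists_sylow hr hsq hy
  set Y : Subgroup T := zpowers y with hY
  set N : Subgroup T := normalizer (Y : Set T) with hN
  have hYc : Nat.card Y = r := by rw [hY, Nat.card_zpowers, hy]
  have hcyc : IsCyclic (MulAut Y) := by
    have e1 : MulAut Y ≃* (ZMod (Nat.card Y))ˣ := IsCyclic.mulAutMulEquiv Y
    rw [hYc] at e1
    exact isCyclic_of_injective e1.toMonoidHom e1.injective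
  have hcardAut : Nat.card (MulAut Y) = r - 1 := by
    have e1 : MulAut Y ≃* (ZMod (Nat.card Y))ˣ := IsCyclic.mulAutMulEquiv Y
    rw [hYc] at e1
    rw [Nat.card_congr e1.toEquiv, Nat.card_eq_fintype_card, ZMod.card_units_eq_totient, Nat.totient_prime hr]
  have hfinA : Finite (MulAut Y) := Nat.finite_of_card_ne_zero (by rw [hcardAut]; have := hr.two_le; omega)
  set χ : N →* MulAut Y := Y.normalizerMonoidHom with hχ
  have hker : χ.ker = (centralizer (Y : Set T)).subgroupOf N := Y.normalizerMonoidHom_ker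
  have hCN : centralizer (Y : Set T) ≤ N := centralizer_le_normalizer _
  obtain ⟨⟨g, hg⟩, hgen⟩ := (inferInstance : IsCyclic ↥χ.range).exists_generator
  obtain ⟨h, rfl⟩ := hg
  have horder : orderOf (χ h) = Nat.card ↥χ.range := by
    have h1 := orderOf_eq_card_of_forall_mem_zpowers hgen
    exact (Subgroup.orderOf_coe _).trans h1
  have hN1 : Nat.card ↥N = Nat.card ↥(centralizer (Y : Set T)) * Nat.card ↥χ.range := by
    rw [← Subgroup.index_ker, hker]
    have h1 := ((centralizer (Y : Set T)).subgroupOf N).card_mul_index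
    rw [Nat.card_congr (Subgroup.subgroupOfEquivOfLe hCN).toEquiv] at h1
    exact h1.symm
  -- the number of Sylow subgroups
  have hS1 := card_sylow_modEq_one r T
  have hS2 : Nat.card (Sylow r T) = N.index := by
    rw [Sylow.card_eq_index_normalizer P]
    change (normalizer ((P : Subgroup T) : Set T)).index = _
    rw [hP]
  have hS0 : 1 ≤ Nat.card (Sylow r T) := Nat.card_pos
  obtain ⟨k, hk⟩ : ∃ k, Nat.card (Sylow r T) = 1 + k * r := by
    have h1 : r ∣ Nat.card (Sylow r T) - 1 := (Nat.modEq_iff_dvd' hS0).1 hS1.symm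
    obtain ⟨k, hk⟩ := h1
    exact ⟨k, by rw [mul_comm k r, ← hk]; omega⟩
  have hcomm : ∀ j : ℕ, χ (h ^ j) = 1 ↔ (h : T) ^ j * y = y * (h : T) ^ j := by
    intro j
    rw [← MonoidHom.mem_ker, hker, Subgroup.mem_subgroupOf, mem_centralizer_zpowers]
    rfl
  refine ⟨Nat.card ↥χ.range, k, h, ?_, ?_, ?_, ?_, ?_⟩
  · rw [← hcardAut]
    exact Subgroup.card_subgroup_dvd_card _
  · rw [← hN1, ← hk, hS2, Subgroup.card_mul_index]
  · intro z hz
    exact (mem_normalizer_iff.1 h.2 z).1 hz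
  · intro j
    rw [← hcomm j, map_pow, ← horder, orderOf_dvd_iff_pow_eq_one]
  · intro he1 n hn
    have h1 : Nat.card ↥χ.range = 1 := he1
    have h2 : χ.range = ⊥ := Subgroup.eq_bot_of_card_eq _ h1
    have h3 : χ ⟨n, hn⟩ = 1 := by
      have : χ ⟨n, hn⟩ ∈ χ.range := ⟨_, rfl⟩
      rwa [h2, Subgroup.mem_bot] at this
    have h4 : (⟨n, hn⟩ : N) ∈ χ.ker := h3
    rw [hker, Subgroup.mem_subgroupOf] at h4
    exact h4

/-- Burnside -/
theorem false_of_normalizer_le (hr : r.Prime) [IsSimpleGroup T] (hsq : ¬ r ^ 2 ∣ Nat.card T) {y : T} (hy : orderOf y = r)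
    (hne : Nat.card T ≠ r)
    (h : normalizer ((zpowers y : Subgroup T) : Set T) ≤ centralizer ((zpowers y : Subgroup T) : Set T)) : False := by
  have := Fact.mk hr
  obtain ⟨P, hP⟩ := exists_sylow hr hsq hy
  have hPle : normalizer ((P : Subgroup T) : Set T) ≤ centralizer ((P : Subgroup T) : Set T) := by rw [hP]; exact h
  have hc := MonoidHom.ker_transferSylow_isComplement' P hPle
  have h1 := hc.card_mul
  have hPc : Nat.card ↥(P : Subgroup T) = r := by rw [hP, Nat.card_zpowers, hy]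
  rw [hPc] at h1
  rcases ((MonoidHom.transferSylow P hPle).normal_ker).eq_bot_or_eq_top with h2 | h2
  · rw [h2, Subgroup.card_bot, one_mul] at h1
    exact hne h1.symm
  · rw [h2, Subgroup.card_top] at h1
    have h3 : 0 < Nat.card T := Nat.card_pos
    have h4 := hr.two_le
    have h5 : Nat.card T * 2 ≤ Nat.card T * r := Nat.mul_le_mul_left _ h4
    omega

end Num

section Lift

/-- lifting a Frobenius pair along a surjection with kernel of order prime to `r` -/
theorem lift_pair {N X : Type*} [Group N] [Finite N] [Group X] (f : N →* X) (hf : Function.Surjective f) {r s e m : ℕ}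
    (hr : r.Prime) (hs : s.Prime) (hrK : ¬ r ∣ Nat.card ↥f.ker) (he : e = s ^ m) {y h₀ : X} (hy : orderOf y = r)
    (hn : h₀ * y * h₀⁻¹ ∈ zpowers y) (hj : ∀ j : ℕ, h₀ ^ j * y = y * h₀ ^ j ↔ e ∣ j) :
    ∃ x h : N, orderOf x = r ∧ f x = y ∧ h * x * h⁻¹ ∈ zpowers x ∧ (∀ j : ℕ, h ^ j * x = x * h ^ j ↔ e ∣ j) ∧
      ∃ a, orderOf h = s ^ a ∧ m ≤ a := by
  have := Fact.mk hr
  -- the element `x`
  obtain ⟨x, hx, hxy⟩ : ∃ x : N, orderOf x = r ∧ f x = y := by
    obtain ⟨x₁, hx₁⟩ := hf y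
    -- `x₁ ^ r ∈ ker f`
    have h1 : x₁ ^ r ∈ f.ker := by
      rw [MonoidHom.mem_ker, map_pow, hx₁, ← hy, pow_orderOf_eq_one]
    have h2 : x₁ ^ (r * Nat.card ↥f.ker) = 1 := by
      rw [pow_mul]
      have h3 := pow_card_eq_one' (x := (⟨x₁ ^ r, h1⟩ : f.ker))
      exact congrArg Subtype.val h3
    have hcop : (Nat.card ↥f.ker).Coprime r := ((Nat.Prime.coprime_iff_not_dvd hr).2 hrK).symm
    obtain ⟨u, hu1, hu2⟩ := Nat.chineseRemainder hcop 0 1
    have hu0 : Nat.card ↥f.ker ∣ u := (Nat.modEq_zero_iff_dvd).1 hu1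
    refine ⟨x₁ ^ u, ?_, ?_⟩
    · have h4 : f (x₁ ^ u) = y := by
        rw [map_pow, hx₁]
        have h5 : y ^ u = y ^ 1 := by
          rw [pow_eq_pow_iff_modEq, hy]
          exact hu2
        rw [h5, pow_one]
      have h5 : (x₁ ^ u) ^ r = 1 := by
        obtain ⟨w, rfl⟩ := hu0
        rw [← pow_mul, mul_assoc, mul_comm w r, ← mul_assoc, mul_comm _ r, pow_mul, h2, one_pow]
      refine (Nat.dvd_prime hr).1 (orderOf_dvd_of_pow_eq_one h5) |>.resolve_left fun h6 => ?_
      rw [orderOf_eq_one_iff] at h6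
      rw [h6, map_one] at h4
      rw [← h4, orderOf_one] at hy
      exact hr.one_lt.ne hy
    · rw [map_pow, hx₁]
      have h5 : y ^ u = y ^ 1 := by
        rw [pow_eq_pow_iff_modEq, hy]
        exact hu2
      rw [h5, pow_one]
  obtain ⟨g, hg⟩ := hf h₀
  have hPX : (zpowers x).map f = zpowers y := by rw [MonoidHom.map_zpowers, hxy]
  have hzn : ∀ z ∈ zpowers y, h₀ * z * h₀⁻¹ ∈ zpowers y := by
    rintro _ ⟨i, rfl⟩
    change h₀ * y ^ i * h₀⁻¹ ∈ zpowers y
    rw [← conj_zpow]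
    exact zpow_mem hn i
  obtain ⟨m₁, hm₁, hnorm⟩ := Cfsg.Agent.PLocal.CoprimeLift.exists_normalizing_lift (p := r) f.ker (zpowers x)
    ((Nat.Prime.coprime_iff_not_dvd hr).2 hrK).symm (isPGroup_zpowers hr hx) g (by
      intro z hz
      have h1 : f (g * z * g⁻¹) ∈ (zpowers x).map f := by
        rw [map_mul, map_mul, map_inv, hg, hPX]
        refine hzn _ ?_
        rw [← hPX]
        exact ⟨z, hz, rfl⟩
      obtain ⟨w, hw, hwz⟩ := h1
      have h2 : w⁻¹ * (g * z * g⁻¹) ∈ f.ker := by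
        rw [MonoidHom.mem_ker, map_mul, map_inv, hwz, inv_mul_cancel]
      have h3 : g * z * g⁻¹ = w * (w⁻¹ * (g * z * g⁻¹)) := by group
      rw [h3]
      exact mul_mem ((le_sup_left : zpowers x ≤ _) hw) ((le_sup_right : f.ker ≤ _) h2))
  set h₁ : N := m₁ * g with hh₁
  have hfh₁ : f h₁ = h₀ := by
    rw [hh₁, map_mul, (MonoidHom.mem_ker).1 hm₁, one_mul, hg]
  have hinj : ∀ i : ℤ, f (x ^ i) = f x → x ^ i = x := by
    intro i hi
    rw [map_zpow, hxy] at hi
    have h1 : y ^ i = y ^ (1 : ℤ) := by rw [hi, zpow_one]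
    rw [zpow_eq_zpow_iff_modEq, hy] at h1
    have h2 : x ^ i = x ^ (1 : ℤ) := by rw [zpow_eq_zpow_iff_modEq, hx]; exact h1
    rw [h2, zpow_one]
  have hj₁ : ∀ j : ℕ, h₁ ^ j * x = x * h₁ ^ j ↔ e ∣ j := by
    intro j
    rw [← hj j]
    constructor
    · intro h1
      have h2 := congrArg f h1
      rwa [map_mul, map_mul, map_pow, hfh₁, hxy] at h2
    · intro h1
      have h2 : h₁ ^ j * x * (h₁ ^ j)⁻¹ ∈ zpowers x :=
        (mem_normalizer_iff.1 (Subgroup.pow_mem _ hnorm j) x).1 (mem_zpowers x)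
      obtain ⟨i, hi⟩ := h2
      have hi' : x ^ i = h₁ ^ j * x * (h₁ ^ j)⁻¹ := hi
      have h3 : f (x ^ i) = f x := by
        rw [hi', map_mul, map_mul, map_inv, map_pow, hfh₁, hxy, h1, mul_inv_cancel_right]
      have h4 := hinj i h3
      rw [hi'] at h4
      exact mul_inv_eq_iff_eq_mul.1 h4
  -- the `s`-part
  obtain ⟨a, b, hb, hab⟩ := Nat.exists_eq_pow_mul_and_not_dvd (orderOf_pos h₁).ne' s hs.ne_one
  have heo : e ∣ orderOf h₁ := by
    rw [← hj₁, pow_orderOf_eq_one, one_mul, mul_one]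
  have hcopb : (s ^ m).Coprime b := Nat.Coprime.pow_left _ ((Nat.Prime.coprime_iff_not_dvd hs).2 hb)
  have hb0 : b ≠ 0 := by rintro rfl; exact hb (dvd_zero _)
  refine ⟨x, h₁ ^ b, hx, hxy, ?_, ?_, a, ?_, ?_⟩
  · exact (mem_normalizer_iff.1 (Subgroup.pow_mem _ hnorm b) x).1 (mem_zpowers x)
  · intro j
    rw [← pow_mul, hj₁, he]
    exact hcopb.dvd_mul_left
  · rw [orderOf_pow' _ hb0, hab, Nat.gcd_eq_right (Dvd.intro_left _ rfl), Nat.mul_div_cancel _ (Nat.pos_of_ne_zero hb0)]
  · rw [he, hab] at heo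
    have h1 : s ^ m ∣ s ^ a := hcopb.dvd_of_dvd_mul_right heo
    exact (Nat.pow_dvd_pow_iff_le_right hs.one_lt).1 h1

/-- **A Frobenius pair normalizing a `t`-group.** -/
theorem frob_fix {G : Type*} [Group G] [Finite G] {t r e : ℕ} (ht : t.Prime) (hr : r.Prime) (htr : t ≠ r)
    (hte : t.Coprime e) (he1 : e ≠ 1) (P : Subgroup G) (hP : IsPGroup t ↥P) (hP1 : P ≠ ⊥) (x h : G)
    (hx : orderOf x = r) (hh : orderOf h = e) (hxP : x ∈ normalizer (P : Set G)) (hhP : h ∈ normalizer (P : Set G))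
    (hn : h * x * h⁻¹ ∈ zpowers x) (hj : ∀ j : ℕ, h ^ j * x = x * h ^ j → e ∣ j)
    (hno : ¬ ∃ g : G, orderOf g = t * r) : ∃ g : G, orderOf g = t * e := by
  have := Fact.mk ht
  have := Fact.mk hr
  set U : Subgroup G := zpowers x with hU
  set E : Subgroup G := zpowers h with hE
  have hUc : Nat.card U = r := by rw [hU, Nat.card_zpowers, hx]
  have hEc : Nat.card E = e := by rw [hE, Nat.card_zpowers, hh]
  have hUr : IsPGroup r U := isPGroup_zpowers hr hx
  have hx1 : x ≠ 1 := by rintro rfl; rw [orderOf_one] at hx; exact hr.one_lt.ne hx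
  have hh1 : h ≠ 1 := by rintro rfl; rw [orderOf_one] at hh; exact he1 hh.symm
  -- fixed point free
  have hfpf : ∀ g ∈ E, g ≠ 1 → ∀ u ∈ U, g * u = u * g → u = 1 := by
    intro g hg hg1 u hu hgu
    by_contra hu1
    obtain ⟨j, rfl⟩ : ∃ j : ℕ, h ^ j = g := mem_powers_iff_mem_zpowers.2 hg
    -- `x ∈ ⟨u⟩`
    have h1 : x ∈ zpowers u := by
      have h2 : zpowers u = U := by
        have h3 : zpowers u ≤ U := by rw [zpowers_le]; exact hu
        refine Subgroup.eq_of_le_of_card_ge h3 ?_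
        have h4 : orderOf u ∣ r := by
          have := orderOf_dvd_natCard (⟨u, hu⟩ : U)
          rwa [Subgroup.orderOf_mk, hUc] at this
        rw [hUc, Nat.card_zpowers]
        rcases (Nat.dvd_prime hr).1 h4 with h5 | h5
        · exact absurd (orderOf_eq_one_iff.1 h5) hu1
        · exact h5.ge
      rw [h2]
      exact mem_zpowers x
    obtain ⟨i, rfl⟩ := h1
    have h2 : h ^ j * u ^ i = u ^ i * h ^ j := (Commute.zpow_right (show Commute (h ^ j) u from hgu) i).eq
    have h3 := hj j h2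
    apply hg1
    obtain ⟨w, rfl⟩ := h3
    rw [pow_mul, ← hh, pow_orderOf_eq_one, one_pow]
  have hUE : U ⊓ E = ⊥ := by
    rw [eq_bot_iff]
    intro g hg
    obtain ⟨hgU, hgE⟩ := mem_inf.1 hg
    rw [mem_bot]
    by_contra hg1
    exact hg1 (hfpf g hgE hg1 g hgU rfl)
  have hEU : ∀ g ∈ E, ∀ u ∈ U, g * u * g⁻¹ ∈ U := by
    have hhU : h ∈ normalizer (U : Set G) := by
      have hsub : ∀ u ∈ U, h * u * h⁻¹ ∈ U := by
        rintro _ ⟨i, rfl⟩
        change h * x ^ i * h⁻¹ ∈ U
        rw [← conj_zpow]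
        exact zpow_mem hn i
      have h5 : U.map (MulAut.conj h).toMonoidHom = U := by
        have h6 : U.map (MulAut.conj h).toMonoidHom ≤ U := by
          rintro _ ⟨u, hu, rfl⟩
          exact hsub u hu
        refine Subgroup.eq_of_le_of_card_ge h6 ?_
        exact (Nat.card_congr (U.equivMapOfInjective _ (MulAut.conj h).injective).toEquiv).le
      rw [mem_normalizer_iff]
      intro u
      refine ⟨hsub u, fun hu => ?_⟩
      rw [← h5] at hu
      obtain ⟨w, hw, hwu⟩ := hu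
      have h7 : h * w * h⁻¹ = h * u * h⁻¹ := hwu
      have h8 : w = u := by
        have := congrArg (fun z => h⁻¹ * z * h) h7
        simpa [mul_assoc] using this
      rwa [← h8]
    intro g hg u hu
    have h9 : g ∈ normalizer (U : Set G) := (zpowers_le.2 hhU : E ≤ _) hg
    exact (mem_normalizer_iff.1 h9 u).1 hu
  have hEn : E ≤ normalizer (U : Set G) := by
    intro g hg
    rw [mem_normalizer_iff]
    intro u
    refine ⟨hEU g hg u, fun hu => ?_⟩
    have := hEU g⁻¹ (inv_mem hg) _ hu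
    simpa [mul_assoc] using this
  have hle : U ⊔ E ≤ normalizer (P : Set G) := by
    rw [sup_le_iff, hU, hE, zpowers_le, zpowers_le]
    exact ⟨hxP, hhP⟩
  obtain ⟨a, ha⟩ := (IsPGroup.iff_card).mp hP
  have hcop : Nat.Coprime (Nat.card P) (Nat.card ↥(U ⊔ E)) := by
    have h4 : Nat.card ↥(U ⊔ E) ∣ e * r := by
      have := Cfsg.Agent.OddOrderLocal.IdealPrime.card_sup_dvd E U hEn
      rwa [hUc, hEc, sup_comm] at this
    refine Nat.Coprime.coprime_dvd_right h4 ?_
    rw [ha]
    exact Nat.Coprime.pow_left _ (Nat.Coprime.mul_right hte ((Nat.coprime_primes ht hr).2 htr))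
  have hW := Cfsg.Agent.S1545.result U E P (by rw [hU, Ne, zpowers_eq_bot]; exact hx1)
    (by rw [hE, Ne, zpowers_eq_bot]; exact hh1) hUE hEU hfpf ?_ ?_ ?_ hcop
  · -- `C_P(x) = 1`
    have e2 : P ⊓ centralizer (U : Set G) = ⊥ := by
      rw [eq_bot_iff]
      intro u hu
      rw [mem_bot]
      by_contra hu1
      have hcomm : u * x = x * u := ((mem_centralizer_iff.mp (mem_inf.mp hu).2) x (mem_zpowers _)).symm
      exact hno (exists_mul_of_commute' ht hr htr hP hUr (mem_inf.mp hu).1 (mem_zpowers x) hu1 hx1 hcomm)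
    have e3 : P ⊓ centralizer ((U ⊔ E : Subgroup G) : Set G) = ⊥ := by
      rw [eq_bot_iff, ← e2]
      exact inf_le_inf_left _ (centralizer_le (SetLike.coe_subset_coe.mpr le_sup_left))
    rw [e2, e3] at hW
    simp only [Subgroup.card_bot, one_pow, one_mul, mul_one] at hW
    have h5 : P ⊓ centralizer (E : Set G) ≠ ⊥ := by
      intro h6
      rw [h6, Subgroup.card_bot, one_pow] at hW
      exact hP1 (Subgroup.eq_bot_of_card_eq _ hW)
    obtain ⟨v, hv, hv1⟩ : ∃ v ∈ P ⊓ centralizer (E : Set G), v ≠ 1 := by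
      by_contra hcon
      push Not at hcon
      exact h5 ((Subgroup.eq_bot_iff_forall _).mpr hcon)
    obtain ⟨i, hi⟩ := exists_orderOf_eq ht hP (mem_inf.1 hv).1 hv1
    have hcomm : Commute v h := ((mem_centralizer_iff.mp (mem_inf.mp hv).2) h (mem_zpowers _)).symm
    refine ⟨v ^ i * h, ?_⟩
    have h7 : Commute (v ^ i) h := hcomm.pow_left i
    rw [h7.orderOf_mul_eq_mul_orderOf_of_coprime, hi, hh]
    rw [hi, hh]
    exact hte
  · intro y hy h hh
    exact (mem_normalizer_iff.mp (hle hy) h).mp hh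
  · rw [← Subgroup.card_eq_one]
    exact Nat.eq_one_of_dvd_coprimes hcop (Subgroup.card_dvd_of_le inf_le_left)
      (Subgroup.card_dvd_of_le inf_le_right)
  · have : Group.IsNilpotent P := hP.isNilpotent
    infer_instance

end Lift

end Cfsg.Agent.H548.SpA
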